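import Cfsg.Agent.Lib.Chev.Bruhat
import Cfsg.Agent.Lib.Chev.BN

/-!
The centraliser of a torus element in a Chevalley group, through the uniqueness of the Bruhat form.
-/

set_option autoImplicit false
set_option linter.unusedSectionVars false

namespace CfsgLib.ChevTorusCent

open Cfsg.Lie CfsgLib.Chev
open scoped Matrix

variable {D : ChevalleyDatum} {T : Tabs} {F : Type*} [Field F]

/-- the roots of `P` on which the character is trivial -/
def FixRoot (D : ChevalleyDatum) (T : Tabs) (χ : Fin D.rank → Fˣ) (P : ℕ → Prop) (r : ℕ) : Prop :=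
  P r ∧ chi χ (rv D T r) = 1

section
variable (hc : Checked D T)
include hc

theorem torus_commute (χ ψ : Fin D.rank → Fˣ) :
    torus D T F χ * torus D T F ψ = torus D T F ψ * torus D T F χ := by
  rw [← map_mul, ← map_mul, mul_comm]

theorem torus_conj_uProd (χ : Fin D.rank → Fˣ) {L : List ℕ} (hL : ∀ r ∈ L, r < D.nroots) (t : ℕ → F) :
    torus D T F χ * uProd D F L t * (torus D T F χ)⁻¹ =
      uProd D F L (fun r => (chi χ (rv D T r) : F) * t r) := by
  induction L with
  | nil => simp [uProd]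
  | cons a L ih =>
    rw [List.forall_mem_cons] at hL
    simp only [uProd, List.map_cons, List.prod_cons] at ih ⊢
    rw [← ih hL.2, ← torus_conj_elX hc χ hL.1]
    group

variable (hcomm : CommOne D T)
include hcomm

/-- an element of a root product fixed by a torus element involves fixed roots only -/
theorem mem_fix_of_commute {χ : Fin D.rank → Fˣ} {P : ℕ → Prop} (hP : ClosedPos D T P) {g : GL D.Idx F}
    (hg : g ∈ uGen D F P) (h : torus D T F χ * g * (torus D T F χ)⁻¹ = g) :
    g ∈ uGen D F (FixRoot D T χ P) := by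
  obtain ⟨t, rfl⟩ := uGen_exists hc hcomm hP hg
  rw [torus_conj_uProd hc χ (fun r hr => (mem_rootsFrom.1 hr).2.1)] at h
  refine Subgroup.list_prod_mem _ fun y hy => ?_
  obtain ⟨r, hr, rfl⟩ := List.mem_map.1 hy
  obtain ⟨-, hrn, hPr⟩ := mem_rootsFrom.1 hr
  have h1 := uProd_inj hc (fun r hr hp => hP.1 r hr hp) 0 h r hr
  by_cases h0 : t r = 0
  · rw [h0, elX_zero hc F hrn]; exact one_mem _
  · refine elX_mem_uGen hrn ⟨hPr, Units.ext ?_⟩ _
    rw [Units.val_one]
    exact (mul_eq_right₀ h0).1 h1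

/-- The centraliser of a torus element. -/
theorem exists_of_commute {χ : Fin D.rank → Fˣ} (hχ : torus D T F χ ∈ D.diagonalSubgroup F)
    {g : GL D.Idx F} (hg : g ∈ D.group F) (h : torus D T F χ * g = g * torus D T F χ) :
    ∃ u ∈ uGen D F (FixRoot D T χ (fun r => D.nroots / 2 ≤ r)), ∃ k ∈ D.diagonalSubgroup F,
      ∃ L : List (Fin D.rank), reflChars L χ = χ ∧
        ∃ v ∈ uGen D F (FixRoot D T χ (InvRoot D T L)), g = u * (k * nProd D F L) * v := by
  obtain ⟨u, hu, k, hk, L, v, hv, rfl⟩ := exists_bruhat hc hcomm hg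
  set s := torus D T F χ with hsdef
  set n := nProd D F L with hndef
  have hns : n * s * n⁻¹ = torus D T F (reflChars L χ) := nProd_conj_torus hc L χ
  have hsk : s * k = k * s := by
    obtain ⟨c, hc'⟩ := (mem_diagonal hc).1 hk
    rw [← hc', hsdef, torus_commute hc]
  have hsu : s * u * s⁻¹ ∈ uGen D F (fun r => D.nroots / 2 ≤ r) := diag_conj_mem hc _ hχ hu
  have hsv : s * v * s⁻¹ ∈ uInv D T F L := diag_conj_mem hc _ hχ hv
  have hs' : s * (n * s⁻¹ * n⁻¹) ∈ D.diagonalSubgroup F :=
    mul_mem hχ (nProd_conj_diagonal hc L (inv_mem hχ))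
  have e : (s * u * s⁻¹) * ((k * (s * (n * s⁻¹ * n⁻¹))) * n) * (s * v * s⁻¹) = u * (k * n) * v := by
    calc (s * u * s⁻¹) * ((k * (s * (n * s⁻¹ * n⁻¹))) * n) * (s * v * s⁻¹)
        = s * u * s⁻¹ * (k * s) * n * v * s⁻¹ := by group
      _ = s * u * s⁻¹ * (s * k) * n * v * s⁻¹ := by rw [hsk]
      _ = s * (u * (k * n) * v) * s⁻¹ := by group
      _ = _ := by rw [h]; group
  obtain ⟨-, e1, e2, e3⟩ := bruhat_unique hc (mul_mem hk hs') hk hsu hu hsv hv e
  refine ⟨u, mem_fix_of_commute hc hcomm (closedPos_pos hc) hu e1, k, hk, L, ?_, v,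
    mem_fix_of_commute hc hcomm (closedPos_inv hc L) hv e2, rfl⟩
  refine torus_injective hc ?_
  rw [← hns, ← hsdef]
  have h2 : s * (n * s⁻¹ * n⁻¹) = 1 := mul_eq_left.1 (mul_right_cancel e3)
  rw [show n * s * n⁻¹ = (n * s⁻¹ * n⁻¹)⁻¹ by group]
  exact inv_eq_of_mul_eq_one_left h2

/-- Conversely fixed root products commute with the torus element. -/
theorem commute_of_mem_fix {χ : Fin D.rank → Fˣ} {P : ℕ → Prop} {g : GL D.Idx F}
    (hg : g ∈ uGen D F (FixRoot D T χ P)) : torus D T F χ * g = g * torus D T F χ := by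
  induction hg using Subgroup.closure_induction with
  | mem x hx =>
      obtain ⟨r, t, hr, hfix, rfl⟩ := hx
      rw [torus_elX hc χ hr, hfix.2, Units.val_one, one_mul]
  | one => simp
  | mul x y _ _ hx hy => rw [← mul_assoc, hx, mul_assoc, hy, mul_assoc]
  | inv x _ hx => exact (Commute.inv_right (a := torus D T F χ) (b := x) hx)

end

end CfsgLib.ChevTorusCent
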